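import Groth.Agent.LocH.TildeCompl
import Groth.Agent.PunctArt.Basic
import Groth.Agent.S0356
import Groth.Prelude.Def_FEt
import Groth.Prelude.Def_CAlg
import Mathlib

/-! Coherent cohomology of the punctured spectrum of a Cohen-Macaulay local ring in low degrees. -/

set_option autoImplicit false
set_option backward.isDefEq.respectTransparency false
set_option backward.isDefEq.respectTransparency.types false
set_option linter.style.haveILetI false

universe u

open CategoryTheory CategoryTheory.Limits AlgebraicGeometry Opposite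

noncomputable section

namespace Groth.Agent.EtPunctCM

variable (R : Type u) [CommRing R] [LocCoh.IsCohenMacaulayLocalRing R]

theorem natCast_le_depth (n : ℕ) (hn : (n : WithBot ℕ∞) ≤ ringKrullDim R) :
    (n : ℕ∞) ≤ LocCoh.idealDepth (IsLocalRing.maximalIdeal R) R := by
  have h := LocCoh.IsCohenMacaulayLocalRing.supportDim_eq_depth (R := R)
  rw [Module.supportDim_self_eq_ringKrullDim] at h
  rw [h] at hn
  exact WithBot.coe_le_coe.1 hn

theorem puncturedSpec_eq : FEt.puncturedSpec R = LocCoh.puncturedOpen R (IsLocalRing.maximalIdeal R) := by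
  apply TopologicalSpace.Opens.ext
  show ({IsLocalRing.closedPoint R}ᶜ : Set (PrimeSpectrum R)) = (PrimeSpectrum.zeroLocus _)ᶜ
  rw [compl_inj_iff]
  ext x
  simp only [Set.mem_singleton_iff, PrimeSpectrum.mem_zeroLocus, SetLike.coe_subset_coe]
  refine ⟨fun h => h ▸ le_rfl, fun h => PrimeSpectrum.ext ?_⟩
  exact le_antisymm (IsLocalRing.le_maximalIdeal x.2.ne_top) h

theorem surjective_appTop (hd : ((2 : ℕ) : WithBot ℕ∞) ≤ ringKrullDim R) :
    Function.Surjective (FEt.puncturedSpec R).ι.appTop := by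
  have h2 := (LocH.le_idealDepth_iff (IsLocalRing.maximalIdeal R) R 2).1 (natCast_le_depth R 2 hd)
  obtain ⟨rs, hlen, hreg, hmem⟩ := LocH.exists_isWeaklyRegular (IsLocalRing.maximalIdeal R) 2 R h2
  obtain ⟨x, y, rfl⟩ := List.length_eq_two.1 hlen
  rw [RingTheory.Sequence.isWeaklyRegular_cons_iff, RingTheory.Sequence.isWeaklyRegular_cons_iff] at hreg
  have hs := LocH.surjective_secOf_of_regular (IsLocalRing.maximalIdeal R) (hmem x (by simp)) (hmem y (by simp))
    hreg.1 hreg.2.1
  have hU : FEt.puncturedSpec R = EGA4.openCompl R (IsLocalRing.maximalIdeal R) :=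
    (puncturedSpec_eq R).trans rfl
  rw [hU]
  intro s
  obtain ⟨r, hr⟩ := hs ((EGA4.openCompl R (IsLocalRing.maximalIdeal R)).topIso.hom s)
  refine ⟨(Scheme.ΓSpecIso (CommRingCat.of R)).inv r,
    (ConcreteCategory.bijective_of_isIso (EGA4.openCompl R (IsLocalRing.maximalIdeal R)).topIso.hom).1 ?_⟩
  refine Eq.trans ?_ hr
  simp only [Scheme.Opens.ι_appTop, Scheme.Opens.topIso_hom, ← ConcreteCategory.comp_apply, ← Functor.map_comp]
  rfl

theorem subsingleton_HH (q : ℕ) (hq : 1 ≤ q) (hd : ((q + 2 : ℕ) : WithBot ℕ∞) ≤ ringKrullDim R) :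
    Subsingleton (Coh.HH ↑(FEt.puncturedSpec R) (Coh.structureModule ↑(FEt.puncturedSpec R)) q) := by
  rw [puncturedSpec_eq]
  have h1 := (LocH.le_idealDepth_iff (IsLocalRing.maximalIdeal R) R (q + 2)).1 (natCast_le_depth R (q + 2) hd)
    (q + 1) (by omega)
  obtain ⟨e⟩ := Groth.Agent.S0356.result R (IsLocalRing.maximalIdeal R) R q hq
  haveI := h1
  have := e.toEquiv.subsingleton
  let U := LocCoh.puncturedOpen R (IsLocalRing.maximalIdeal R)
  let i : (PunctArt.RR U).obj (ModuleCat.of R R) ≅ Coh.structureModule (↑U : Scheme.{u}) :=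
    (Scheme.Modules.restrictFunctor U.ι).mapIso (AlgebraicGeometry.tildeSelf (R := CommRingCat.of R)) ≪≫
      Scheme.Modules.restrictUnitIso U.ι
  refine subsingleton_of_forall_eq 0 fun x => ?_
  calc x = CohFinite.hhMap R (𝟙 (Coh.structureModule (↑U : Scheme.{u}))) q x := (CohFinite.hhMap_id R _ q x).symm
    _ = CohFinite.hhMap R i.hom q (CohFinite.hhMap R i.inv q x) := by
        rw [← Iso.inv_hom_id i, CohFinite.hhMap_comp]
    _ = 0 := by
        rw [show CohFinite.hhMap R i.inv q x = 0 from this.elim _ _, map_zero]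

end Groth.Agent.EtPunctCM
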