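import Groth.Agent.EtPunctCM.Coh
import Groth.Agent.EtCurveHY.Main
import Groth.Agent.EtDepthClopen.Sections
import Groth.Agent.EtPBC.CdPProper
import Groth.Agent.EtPBC.LocSheaf
import Groth.Agent.ASchreier.Basic
import Mathlib

/-! Local cohomology of `ℤ/p` at the closed point of a Cohen-Macaulay strictly henselian ring of characteristic `p`. -/

set_option autoImplicit false
set_option backward.isDefEq.respectTransparency false
set_option backward.isDefEq.respectTransparency.types false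
set_option linter.unusedSectionVars false
set_option linter.auxLemma false
set_option linter.overlappingInstances false
set_option linter.style.haveILetI false
set_option maxHeartbeats 1000000

universe u

open CategoryTheory CategoryTheory.Limits CategoryTheory.Abelian AlgebraicGeometry Opposite

noncomputable section

namespace Groth.Agent.EtPunctCM

attribute [local instance 100000] EtCoh.H._proof_1 Groth.Agent.EtMV.hext
attribute [local instance 200000] Groth.Agent.EtMV.hextAb

open EtMV (Γ₀ pp lcι lcη)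

/-! ### Supports from the sections -/

section LES

variable {X U : Scheme.{u}} (j : U ⟶ X) [IsOpenImmersion j] [EtCoh.BCCont j] (G : EtCoh.Ab X)

theorem isZero_HY_zero (hi : Function.Injective (((lcη j).app G).hom.app (op (EtCoh.top X)))) :
    IsZero ((EtDual.HY j 0).obj G) := by
  haveI := EtMV.preservesFiniteLimits_gammaSupp j
  haveI := EtMV.mono_lcι j G
  refine IsZero.of_iso ?_ ((EtDual.gammaSupp j).rightDerivedZeroIsoSelf.app G)
  have h1 : Function.Injective (((lcι j).app G).hom.app (op (EtCoh.top X))) := EtFLC.app_injective _ _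
  refine @AddCommGrpCat.isZero_of_subsingleton _ (subsingleton_of_forall_eq 0 fun t => h1 (hi ?_))
  rw [map_zero, map_zero]
  show (((lcι j).app G ≫ (lcη j).app G).hom.app (op (EtCoh.top X))) t = 0
  rw [← NatTrans.comp_app, EtMV.lcι_lcη]
  rfl

theorem isZero_HY_one (hs : Function.Surjective (((lcη j).app G).hom.app (op (EtCoh.top X))))
    (hX : Subsingleton (EtCoh.H X G 1)) : IsZero ((EtDual.HY j 1).obj G) := by
  haveI := EtPullExact.pull_preservesFiniteLimits j
  haveI := EtMV.pull_etale_preservesInjective j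
  haveI := EtMV.preservesFiniteLimits_gammaSupp j
  haveI : PreservesFiniteLimits (Γ₀ U) := preservesFiniteLimits_of_natIso (EtStrictLoc.secIso U)
  haveI : PreservesFiniteLimits (Γ₀ X) := preservesFiniteLimits_of_natIso (EtStrictLoc.secIso X)
  let α : EtDual.secSupp j ⋙ Γ₀ X ⟶ 𝟭 _ ⋙ Γ₀ X := Functor.whiskerRight (lcι j) (Γ₀ X)
  let γ : 𝟭 _ ⋙ Γ₀ X ⟶ pp j ⋙ Γ₀ X := Functor.whiskerRight (lcη j) (Γ₀ X)
  have w : α ≫ γ = 0 := by
    ext F : 2
    show (Γ₀ X).map ((lcι j).app F) ≫ (Γ₀ X).map ((lcη j).app F) = 0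
    rw [← Functor.map_comp, ← NatTrans.comp_app, EtMV.lcι_lcη, NatTrans.app_zero, Functor.map_zero]
  have hse : ∀ I : EtCoh.Ab X, Injective I →
      (ShortComplex.mk (α.app I) (γ.app I) (by rw [← NatTrans.comp_app, w]; rfl)).ShortExact := by
    intro I hI
    haveI := hI
    have hS := EtMV.shortExact_lc j I hI
    haveI := hS.mono_f
    haveI hm : Mono ((Γ₀ X).map ((lcι j).app I)) := inferInstance
    haveI he : Epi ((Γ₀ X).map ((lcη j).app I)) :=
      (AddCommGrpCat.epi_iff_surjective _).2 (EtMV.unit_surjective j I (EtCoh.top X))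
    exact { exact := hS.exact.map_of_mono_of_preservesKernel (Γ₀ X) hS.mono_f inferInstance
            mono_f := hm
            epi_g := he }
  obtain ⟨δ, hδ⟩ := EtMV.exists_les₁ α γ w hse G
  haveI : PreservesFiniteLimits (pp j ⋙ Γ₀ X) := comp_preservesFiniteLimits _ _
  haveI : PreservesFiniteLimits (𝟭 (EtCoh.Ab X) ⋙ Γ₀ X) := comp_preservesFiniteLimits _ _
  haveI : Epi (γ.app G) := (AddCommGrpCat.epi_iff_surjective _).2 hs
  haveI : Epi ((NatTrans.rightDerived γ 0).app G) := by
    have h := EtMV.toRightDerivedZero_natTrans γ G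
    haveI : Epi ((𝟭 (EtCoh.Ab X) ⋙ Γ₀ X).toRightDerivedZero.app G ≫ (NatTrans.rightDerived γ 0).app G) := by
      rw [← h]; infer_instance
    exact epi_of_epi ((𝟭 (EtCoh.Ab X) ⋙ Γ₀ X).toRightDerivedZero.app G) _
  have hB : IsZero (((𝟭 _ ⋙ Γ₀ X).rightDerived 1).obj G) :=
    (EtCurveHY.isZero_derived_Γ₀ X G 1 hX).of_iso
      ((GrothSS.rightDerivedMapIso (Functor.leftUnitor (Γ₀ X)) 1).app G)
  have hd : δ 0 = 0 := by
    rw [← cancel_epi ((NatTrans.rightDerived γ 0).app G), comp_zero]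
    exact (hδ 0).2.1.toIsComplex.zero 0
  exact ((hδ 0).2.2.exact 0).isZero_X₂ hd (hB.eq_of_tgt _ _)

end LES

/-! ### Artin-Schreier on global functions and on `H^0` -/

theorem exists_comp_as_eq {X : Scheme.{u}} (p : ℕ) [hp : Fact p.Prime] (h0 : (p : Γ(X, ⊤)) = 0)
    (hsurj : ∀ f : Γ(X, ⊤), ∃ g : Γ(X, ⊤), g ^ p - g = f) (y : EtCoh.H X (EtCoh.Ga X) 0) :
    ∃ z : EtCoh.H X (EtCoh.Ga X) 0,
      Ext.comp z (Ext.mk₀ (W4c5etcohweilstudent.artinSchreierEndo X p hp.out h0)) (add_zero 0) = y := by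
  obtain ⟨φ, rfl⟩ := (Ext.mk₀_bijective _ _).2 y
  let e := (EtStrictLoc.secIso X).app (EtCoh.Ga X)
  obtain ⟨g, hg⟩ := hsurj (EtPBC.gaVal (U := EtCoh.top X) (e.hom φ))
  refine ⟨Ext.mk₀ (e.inv (EtPBC.gaSect (U := EtCoh.top X) g)), ?_⟩
  rw [Ext.mk₀_comp_mk₀]
  refine congrArg _ ((ConcreteCategory.bijective_of_isIso e.hom).1 ?_)
  refine (NatTrans.naturality_apply (EtStrictLoc.secIso X).hom
    (W4c5etcohweilstudent.artinSchreierEndo X p hp.out h0) (e.inv (EtPBC.gaSect (U := EtCoh.top X) g))).trans ?_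
  refine (congrArg ((W4c5etcohweilstudent.artinSchreierEndo X p hp.out h0).hom.app (op (EtCoh.top X)))
    (Iso.inv_hom_id_apply e (EtPBC.gaSect (U := EtCoh.top X) g))).trans ?_
  exact ULift.ext _ _ hg

/-! ### Roots of `x^p - x` -/

variable (p : ℕ) [hp : Fact p.Prime]

theorem exists_cast_of_pow_eq {B : Type u} [CommRing B] [IsLocalRing B] (φ : ZMod p →+* B)
    {x : B} (hx : x ^ p = x) : ∃ m, x = φ m := by
  have h0 : (p : B) = 0 := by rw [← map_natCast φ, ZMod.natCast_self, map_zero]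
  haveI : CharP B p := (CharP.charP_iff_prime_eq_zero hp.out).2 h0
  have hb : (IsLocalRing.residue B x) ^ p = IsLocalRing.residue B x := by rw [← map_pow, hx]
  obtain ⟨m, hm⟩ := ASchreier.field_root (p := p) ((IsLocalRing.residue B).comp φ) _ hb
  refine ⟨m, sub_eq_zero.1 ?_⟩
  have he : (x - φ m) ^ p = x - φ m := by rw [sub_pow_char, hx, ← map_pow, ZMod.pow_card]
  have hm' : x - φ m ∈ IsLocalRing.maximalIdeal B := by
    rw [← IsLocalRing.residue_eq_zero_iff, map_sub, sub_eq_zero]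
    exact hm.symm
  obtain ⟨n, hn⟩ : ∃ n, p = n + 1 := ⟨p - 1, (Nat.sub_add_cancel hp.out.one_le).symm⟩
  have hn0 : n ≠ 0 := fun h => hp.out.ne_one (by omega)
  have hu : IsUnit ((x - φ m) ^ n - 1) := by
    by_contra h
    have h1 := Ideal.sub_mem _ (Ideal.pow_mem_of_mem _ hm' n (Nat.pos_of_ne_zero hn0))
      ((IsLocalRing.mem_maximalIdeal _).2 h)
    rw [sub_sub_cancel] at h1
    exact (IsLocalRing.maximalIdeal.isMaximal B).ne_top ((Ideal.eq_top_iff_one _).2 h1)
  refine hu.mul_left_eq_zero.1 ?_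
  rw [mul_sub, mul_one, ← pow_succ', ← hn, he, sub_self]

/-! ### The punctured spectrum -/

variable (R : Type u) [CommRing R] [LocCoh.IsCohenMacaulayLocalRing R] [HenselianLocalRing R]
  [IsSepClosed (IsLocalRing.ResidueField R)] [CharP R p]

theorem nonempty_punctured (hd : ((1 : ℕ) : WithBot ℕ∞) ≤ ringKrullDim R) :
    Nonempty ↥(FEt.puncturedSpec R) := by
  by_contra h
  haveI : Ring.KrullDimLE 0 R := Ring.KrullDimLE.mk₀ fun P hP => by
    by_cases hP' : (⟨P, hP⟩ : PrimeSpectrum R) = IsLocalRing.closedPoint R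
    · rw [show P = IsLocalRing.maximalIdeal R from congrArg PrimeSpectrum.asIdeal hP']
      exact IsLocalRing.maximalIdeal.isMaximal R
    · exact absurd ⟨(⟨(⟨P, hP⟩ : PrimeSpectrum R), hP'⟩ : ↥(FEt.puncturedSpec R))⟩ h
  have := hd.trans (Ring.krullDimLE_iff.1 ‹Ring.KrullDimLE 0 R›)
  simp only [Nat.cast_one, Nat.cast_zero] at this
  exact absurd this (by decide)

theorem h0_spec : (p : Γ(Spec (CommRingCat.of R), ⊤)) = 0 := by
  rw [← map_natCast (Scheme.ΓSpecIso (CommRingCat.of R)).inv.hom, CharP.cast_eq_zero]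
  exact map_zero _

theorem h0_punct : (p : Γ((↑(FEt.puncturedSpec R) : Scheme.{u}), ⊤)) = 0 := by
  rw [← map_natCast (FEt.puncturedSpec R).ι.appTop.hom, h0_spec p R, map_zero]

theorem ci_top [Nonempty ↥(FEt.puncturedSpec R)] :
    EtDepthClopen.CI (pullback.fst (EtCoh.top (Spec (CommRingCat.of R))).hom (FEt.puncturedSpec R).ι) := by
  intro C hC h0
  by_contra hne
  obtain ⟨x, hx⟩ := Set.nonempty_iff_ne_empty.2 hne
  have hcl : IsLocalRing.closedPoint R ∈ C :=
    ((PrimeSpectrum.le_iff_specializes (show PrimeSpectrum R from x) (IsLocalRing.closedPoint R)).1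
      (IsLocalRing.le_maximalIdeal (show PrimeSpectrum R from x).2.ne_top)).mem_closed hC.isClosed hx
  obtain ⟨v⟩ := ‹Nonempty ↥(FEt.puncturedSpec R)›
  have hv : (FEt.puncturedSpec R).ι v ∈ C :=
    ((PrimeSpectrum.le_iff_specializes (show PrimeSpectrum R from (FEt.puncturedSpec R).ι v)
      (IsLocalRing.closedPoint R)).1
      (IsLocalRing.le_maximalIdeal (show PrimeSpectrum R from (FEt.puncturedSpec R).ι v).2.ne_top)).mem_open
      hC.isOpen hcl
  obtain ⟨t, ht, -⟩ := Scheme.Pullback.exists_preimage_pullback (f := (EtCoh.top (Spec (CommRingCat.of R))).hom)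
    (g := (FEt.puncturedSpec R).ι) ((FEt.puncturedSpec R).ι v) v rfl
  exact Set.notMem_empty t (h0.le (show _ ∈ C by rw [ht]; exact hv))

/-- Artin-Schreier equations have roots in a strictly henselian ring -/
theorem exists_as_root (a' : R) : ∃ r : R, r ^ p - r = a' := by
  let q : Polynomial R := Polynomial.X ^ p - Polynomial.X - Polynomial.C a'
  have h1 : 1 < p := hp.out.one_lt
  have hmonic : q.Monic := by
    show (Polynomial.X ^ p - Polynomial.X - Polynomial.C a').Monic
    rw [sub_sub]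
    refine Polynomial.monic_X_pow_sub ?_
    rw [Polynomial.degree_X_add_C]
    exact_mod_cast h1
  let qk := q.map (IsLocalRing.residue R)
  have hdeg : qk.degree ≠ 0 := by
    rw [show qk.degree = q.degree from hmonic.degree_map _,
      show q = Polynomial.X ^ p - (Polynomial.X + Polynomial.C a') from sub_sub _ _ _,
      Polynomial.degree_sub_eq_left_of_degree_lt (by
        rw [Polynomial.degree_X_add_C, Polynomial.degree_X_pow]; exact_mod_cast h1), Polynomial.degree_X_pow]
    exact_mod_cast hp.out.ne_zero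
  haveI : CharP (IsLocalRing.ResidueField R) p := (CharP.charP_iff_prime_eq_zero hp.out).2 (by
    rw [← map_natCast (IsLocalRing.residue R), CharP.cast_eq_zero, map_zero])
  have hder : Polynomial.derivative qk = -1 := by
      simp [qk, q, Polynomial.derivative_X_pow, CharP.cast_eq_zero]
  obtain ⟨ρ, hρ⟩ := IsSepClosed.exists_root qk hdeg (by
    rw [Polynomial.separable_def, hder]; exact isCoprime_one_right.neg_right)
  obtain ⟨r₀, rfl⟩ := Ideal.Quotient.mk_surjective ρ
  obtain ⟨r, hr, -⟩ := HenselianLocalRing.is_henselian q hmonic r₀ (by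
      rw [← IsLocalRing.residue_eq_zero_iff]
      rwa [Polynomial.IsRoot.def, Polynomial.eval_map, show Ideal.Quotient.mk (IsLocalRing.maximalIdeal R) r₀ =
        IsLocalRing.residue R r₀ from rfl, Polynomial.eval₂_at_apply] at hρ) (by
      have : Polynomial.derivative q = -1 := by simp [q, Polynomial.derivative_X_pow, CharP.cast_eq_zero]
      rw [this]; simp)
  exact ⟨r, sub_eq_zero.1 (by simpa [q] using hr)⟩

variable [EtCoh.BCCont (FEt.puncturedSpec R).ι]

theorem unit_injective [Nonempty ↥(FEt.puncturedSpec R)] :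
    Function.Injective (((lcη (FEt.puncturedSpec R).ι).app (EtCoh.const (Spec (CommRingCat.of R)) (ZMod p))).hom.app
      (op (EtCoh.top (Spec (CommRingCat.of R))))) :=
  EtDepthClopen.unitSec_const_injective (M := ZMod p) (FEt.puncturedSpec R).ι (ci_top R)

/-- every global function on the punctured spectrum killed by Artin-Schreier is constant -/
theorem card_sect_le (hd : ((2 : ℕ) : WithBot ℕ∞) ≤ ringKrullDim R) :
    ∃ f : EtCoh.sect (EtCoh.const (↑(FEt.puncturedSpec R) : Scheme.{u}) (ZMod p)) (EtCoh.top _) → ZMod p,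
      Function.Injective f := by
  haveI := nonempty_punctured R ((Nat.cast_le.2 one_le_two).trans hd)
  let U : Scheme.{u} := ↑(FEt.puncturedSpec R)
  let φ : R →+* Γ(U, ⊤) := (FEt.puncturedSpec R).ι.appTop.hom.comp (Scheme.ΓSpecIso (CommRingCat.of R)).inv.hom
  have hφ : Function.Surjective φ :=
    (surjective_appTop R hd).comp (ConcreteCategory.bijective_of_isIso (Scheme.ΓSpecIso (CommRingCat.of R)).inv).2
  haveI : Nontrivial Γ(U, ⊤) := by
    by_contra h
    haveI := not_nontrivial_iff_subsingleton.1 h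
    exact (ASchreier.isEmpty_of_subsingleton U).false (show U from Classical.arbitrary ↥(FEt.puncturedSpec R))
  haveI : IsLocalRing Γ(U, ⊤) := IsLocalRing.of_surjective' φ hφ
  obtain ⟨c⟩ := ASchreier.nonempty_castHom (p := p) (h0_punct p R)
  haveI := EtPBC.mono_asι p (X := U) (h0_punct p R)
  have hinj : Function.Injective ((EtPBC.asι p (X := U) (h0_punct p R)).hom.app (op (EtCoh.top U))) :=
    EtFLC.app_injective _ _
  have key : ∀ s : EtCoh.sect (EtCoh.const U (ZMod p)) (EtCoh.top U), ∃ m,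
      EtPBC.gaVal (U := EtCoh.top U) ((EtPBC.asι p (X := U) (h0_punct p R)).hom.app (op (EtCoh.top U)) s) = c m := by
    intro s
    refine exists_cast_of_pow_eq p (B := Γ(U, ⊤)) c ?_
    have h := congrArg (fun η => EtPBC.gaVal (U := EtCoh.top U) (η.hom.app (op (EtCoh.top U)) s))
      (EtPBC.asι_comp p (X := U) (h0_punct p R))
    exact sub_eq_zero.1 h
  choose f hf using key
  exact ⟨f, fun s t h => hinj (ULift.ext _ _ ((hf s).trans ((congrArg c h).trans (hf t).symm)))⟩

theorem unit_surjective (hd : ((2 : ℕ) : WithBot ℕ∞) ≤ ringKrullDim R) :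
    Function.Surjective (((lcη (FEt.puncturedSpec R).ι).app (EtCoh.const (Spec (CommRingCat.of R)) (ZMod p))).hom.app
      (op (EtCoh.top (Spec (CommRingCat.of R))))) := by
  haveI := nonempty_punctured R ((Nat.cast_le.2 one_le_two).trans hd)
  let j := (FEt.puncturedSpec R).ι
  let G := EtCoh.const (Spec (CommRingCat.of R)) (ZMod p)
  obtain ⟨f, hf⟩ := card_sect_le p R hd
  let e : EtCoh.sect ((pp j).obj G) (EtCoh.top (Spec (CommRingCat.of R))) ≃
      EtCoh.sect (EtCoh.const (↑(FEt.puncturedSpec R) : Scheme.{u}) (ZMod p)) (EtCoh.top _) :=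
    ((EtCurveHY.pushSecIso j).app ((EtCoh.pull j).obj G) ≪≫
      (Γ₀ _).mapIso (EtCore.pullConst j (ZMod p))).addCommGroupIsoToAddEquiv.toEquiv
  have h1 := unit_injective p R
  let g : ZMod p → ZMod p := fun m => f (e (((lcη j).app G).hom.app (op (EtCoh.top _)) (EtMV.cst (EtCoh.top _) m)))
  have hg : Function.Injective g := fun m m' h => by
    have h2 := h1 (e.injective (hf h))
    obtain ⟨Ω, _, _, ξ, -⟩ := EtPBC.exists_geomPt (show ↥(Spec (CommRingCat.of R)) from IsLocalRing.closedPoint R)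
    refine (EtCons.constGerm_bijective (ZMod p) ξ).1 ?_
    exact congrArg (fun z => (Scheme.pointSmallEtale ξ).toPresheafFiber (EtCoh.top _) (EtCons.ptTop ξ) G.obj z) h2
  intro y
  obtain ⟨m, hm⟩ := (Finite.injective_iff_surjective.1 hg) (f (e y))
  exact ⟨EtMV.cst (EtCoh.top _) m, e.injective (hf hm)⟩

theorem surjective_as_zero (hd : ((2 : ℕ) : WithBot ℕ∞) ≤ ringKrullDim R) (f : Γ((↑(FEt.puncturedSpec R) : Scheme.{u}), ⊤)) :
    ∃ g : Γ((↑(FEt.puncturedSpec R) : Scheme.{u}), ⊤), g ^ p - g = f := by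
  obtain ⟨a, rfl⟩ := surjective_appTop R hd f
  obtain ⟨r, hr⟩ := exists_as_root p R ((Scheme.ΓSpecIso (CommRingCat.of R)).hom a)
  refine ⟨(FEt.puncturedSpec R).ι.appTop ((Scheme.ΓSpecIso (CommRingCat.of R)).inv r), ?_⟩
  rw [← map_pow, ← map_sub, ← map_pow, ← map_sub, hr]
  exact congrArg _ (Iso.hom_inv_id_apply (Scheme.ΓSpecIso (CommRingCat.of R)) a)

theorem subsingleton_H_punct (q : ℕ) (hd : ((q + 3 : ℕ) : WithBot ℕ∞) ≤ ringKrullDim R) :
    Subsingleton (EtCoh.H (↑(FEt.puncturedSpec R) : Scheme.{u}) (EtCoh.const _ (ZMod p)) (q + 1)) := by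
  have hGa : ∀ r, 1 ≤ r → r ≤ q + 1 →
      Subsingleton (EtCoh.H (↑(FEt.puncturedSpec R) : Scheme.{u}) (EtCoh.Ga _) r) := fun r h1 h2 => by
    obtain ⟨E, -⟩ := EtPBC.exists_gaEquiv (↑(FEt.puncturedSpec R) : Scheme.{u}) r
    haveI := subsingleton_HH R r h1 ((Nat.cast_le.2 (by omega)).trans hd)
    exact E.toEquiv.subsingleton
  have hS := EtPBC.as_shortExact p (X := (↑(FEt.puncturedSpec R) : Scheme.{u})) (h0_punct p R)
  haveI := hGa (q + 1) (by omega) le_rfl
  refine subsingleton_of_forall_eq 0 fun x => ?_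
  obtain ⟨y, hy⟩ := Ext.covariant_sequence_exact₁ _ hS x (Subsingleton.elim (α := EtCoh.H _ _ _) _ _) (n₀ := q) rfl
  obtain ⟨z, hz⟩ : ∃ z, Ext.comp z (Ext.mk₀
      (W4c5etcohweilstudent.artinSchreierEndo _ p hp.out (h0_punct p R))) (add_zero q) = y := by
    rcases Nat.eq_zero_or_pos q with rfl | hq
    · exact exists_comp_as_eq p (h0_punct p R) (surjective_as_zero p R ((Nat.cast_le.2 (by omega)).trans hd)) y
    · exact ⟨0, (hGa q hq (by omega)).elim _ _⟩
  rw [← hy, ← hz, Ext.comp_assoc z _ _ (add_zero q) (zero_add 1) (by omega)]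
  erw [hS.comp_extClass]
  simp only [Ext.comp_zero]

theorem main (i : ℕ) (hi : (i : WithBot ℕ∞) < ringKrullDim R) :
    IsZero ((EtDual.HY (FEt.puncturedSpec R).ι i).obj (EtCoh.const (Spec (CommRingCat.of R)) (ZMod p))) := by
  have hd : ((i + 1 : ℕ) : WithBot ℕ∞) ≤ ringKrullDim R := by
    obtain ⟨d, hd⟩ : ∃ d : ℕ∞, ringKrullDim R = (d : WithBot ℕ∞) :=
      ⟨_, (WithBot.coe_unbot (ringKrullDim R) ringKrullDim_ne_bot).symm⟩
    rw [hd] at hi ⊢
    exact WithBot.coe_le_coe.2 (ENat.add_one_le_iff (ENat.coe_ne_top i) |>.2 (WithBot.coe_lt_coe.1 hi))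
  match i with
  | 0 =>
    haveI := nonempty_punctured R hd
    exact isZero_HY_zero _ _ (unit_injective p R)
  | 1 =>
    exact isZero_HY_one _ _ (unit_surjective p R hd)
      (EtPBC.subsingleton_H_strictLocal R _ 1 one_pos)
  | q + 2 =>
    refine EtCurveHY.isZero_HY_of_vanish _ _ (q + 1) ?_ (EtPBC.subsingleton_H_strictLocal R _ _ (Nat.succ_pos _))
    haveI : Subsingleton ((EtCoh.HF (↑(FEt.puncturedSpec R) : Scheme.{u}) (q + 1)).obj
      (EtCoh.const _ (ZMod p)) : Type (u + 1)) := subsingleton_H_punct p R q hd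
    exact (((EtCoh.HF _ (q + 1)).mapIso (EtCore.pullConst (FEt.puncturedSpec R).ι (ZMod p))).addCommGroupIsoToAddEquiv).toEquiv.subsingleton

end Groth.Agent.EtPunctCM
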